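import Groth.Agent.Lib.AdeqA.Cartan
import Groth.Agent.Lib.SiteCoh.InjModule

/-!
# Injective modules on the big fppf site have exact Čech complexes and surjective restrictions
-/

set_option autoImplicit false
set_option linter.style.haveILetI false

universe u

open CategoryTheory CategoryTheory.Limits AlgebraicGeometry Opposite

set_option backward.isDefEq.respectTransparency false
set_option backward.isDefEq.respectTransparency.types false

noncomputable section

namespace Groth.Agent.ParPush8

open Groth.Agent.AdeqA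

variable {S : Scheme.{u}} (N : BigSite.Mod Scheme.fppfPrecoverage S)

/-- The values of the cofree presheaf on a module. -/
abbrev CofVal (W : (Over S)ᵒᵖ) : Type (u + 1) :=
  ∀ U : Over S, (U ⟶ W.unop) → N.val.obj (op U)

/-- Restriction of scalars. -/
abbrev rmap {U : Over S} {W : (Over S)ᵒᵖ} (g : U ⟶ W.unop) :
    (BigSite.ORing Scheme.fppfPrecoverage S).obj.obj W →+* (BigSite.ORing Scheme.fppfPrecoverage S).obj.obj (op U) :=
  ((BigSite.ORing Scheme.fppfPrecoverage S).obj.map (g.op : W ⟶ op U)).hom

/-- The module structure. -/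
instance cofModule (W : (Over S)ᵒᵖ) :
    Module ((BigSite.ORing Scheme.fppfPrecoverage S).obj.obj W) (CofVal N W) where
  smul r x := fun U g => rmap g r • x U g
  one_smul x := funext₂ fun U g => by
    show rmap g 1 • x U g = x U g
    rw [map_one, one_smul]
  mul_smul r s x := funext₂ fun U g => by
    show rmap g (r * s) • x U g = rmap g r • (rmap g s • x U g)
    rw [map_mul, mul_smul]
  smul_zero r := funext₂ fun U g => smul_zero _
  smul_add r x y := funext₂ fun U g => smul_add _ _ _
  add_smul r s x := funext₂ fun U g => by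
    show rmap g (r + s) • x U g = rmap g r • x U g + rmap g s • x U g
    rw [map_add, add_smul]
  zero_smul x := funext₂ fun U g => by
    show rmap g 0 • x U g = 0
    rw [map_zero, zero_smul]

/-- The underlying presheaf of groups. -/
def cofAb : (Over S)ᵒᵖ ⥤ Ab.{u + 1} where
  obj W := AddCommGrpCat.of (CofVal N W)
  map f := AddCommGrpCat.ofHom
    { toFun := fun x U g => x U (g ≫ f.unop)
      map_zero' := rfl
      map_add' := fun _ _ => rfl }
  map_id W := by
    ext x U g
    exact congrArg (x U) (Category.comp_id g)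
  map_comp f g := by
    ext x U k
    exact congrArg (x U) (Category.assoc k g.unop f.unop).symm

instance (W : (Over S)ᵒᵖ) :
    Module ((BigSite.ORing Scheme.fppfPrecoverage S).obj.obj W) ((cofAb N).obj W) :=
  cofModule N W

/-- The cofree presheaf of modules. -/
def cof : PresheafOfModules.{u + 1} (BigSite.ORing Scheme.fppfPrecoverage S).obj :=
  PresheafOfModules.ofPresheaf (cofAb N) (fun W W' f r m => funext₂ fun U g => by
    show rmap (g ≫ f.unop) r • (show CofVal N W from m) U (g ≫ f.unop) =
      rmap g (((BigSite.ORing Scheme.fppfPrecoverage S).obj.map f).hom r) • (show CofVal N W from m) U (g ≫ f.unop)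
    rw [rmap, op_comp, Functor.map_comp]
    rfl)

/-- The canonical map to the cofree presheaf. -/
def toCof : N.val ⟶ cof N :=
  PresheafOfModules.homMk
    { app := fun W => AddCommGrpCat.ofHom
        { toFun := fun x => (fun U g => N.val.presheaf.map (g.op : W ⟶ op U) x : CofVal N W)
          map_zero' := funext₂ fun U g => map_zero (N.val.presheaf.map (g.op : W ⟶ op U)).hom
          map_add' := fun x y => funext₂ fun U g => map_add (N.val.presheaf.map (g.op : W ⟶ op U)).hom x y }
      naturality := fun W W' f => by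
        ext x
        funext U g
        show N.val.presheaf.map g.op (N.val.presheaf.map f x) = N.val.presheaf.map (g ≫ f.unop).op x
        rw [op_comp, Functor.map_comp]
        rfl }
    (fun W r m => funext₂ fun U g => N.val.map_smul g.op r m)

theorem mono_toCof : Mono (toCof N) := by
  refine PresheafOfModules.mono_of_injective fun W x y hxy => ?_
  have h := congrFun (congrFun (show (fun U (g : U ⟶ W.unop) => N.val.presheaf.map (g.op : W ⟶ op U) x : CofVal N W) =
    (fun U (g : U ⟶ W.unop) => N.val.presheaf.map (g.op : W ⟶ op U) y : CofVal N W) from hxy) W.unop) (𝟙 W.unop)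
  change N.val.presheaf.map (𝟙 W) x = N.val.presheaf.map (𝟙 W) y at h
  rw [N.val.presheaf.map_id] at h
  exact h

theorem exists_retraction [Injective N] : ∃ q : (PresheafOfModules.toPresheaf _).obj (cof N) ⟶ N.val.presheaf,
    (PresheafOfModules.toPresheaf _).map (toCof N) ≫ q = 𝟙 _ := by
  let sh := PresheafOfModules.sheafification.{u + 1} (𝟙 (BigSite.ORing Scheme.fppfPrecoverage S).obj)
  haveI : Injective N.val := Injective.injective_of_adjoint
    (PresheafOfModules.sheafificationAdjunction.{u + 1} (𝟙 (BigSite.ORing Scheme.fppfPrecoverage S).obj)) N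
  haveI := mono_toCof N
  refine ⟨(PresheafOfModules.toPresheaf _).map (Injective.factorThru (𝟙 N.val) (toCof N)), ?_⟩
  rw [← Functor.map_comp, Injective.comp_factorThru, CategoryTheory.Functor.map_id]

/-- Restriction of sections of an injective module along monomorphisms is surjective. -/
theorem surjective_map_of_mono [Injective N] {W' W : Over S} (i : W' ⟶ W) [Mono i] :
    Function.Surjective (N.val.presheaf.map i.op) := by
  classical
  intro s
  obtain ⟨q, hq⟩ := exists_retraction N
  let t : CofVal N (op W') := fun U g => N.val.presheaf.map g.op s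
  let x : CofVal N (op W) := fun U g =>
    if h : ∃ g', g' ≫ i = g then t U h.choose else 0
  refine ⟨q.app (op W) x, ?_⟩
  refine (NatTrans.naturality_apply q i.op x).symm.trans ?_
  have hx : (cofAb N).map i.op x = t := funext₂ fun U g => by
    show x U (g ≫ i) = t U g
    have h : ∃ g', g' ≫ i = g ≫ i := ⟨g, rfl⟩
    simp only [x, dif_pos h]
    rw [(cancel_mono i).1 h.choose_spec]
  exact (congrArg (q.app (op W')) hx).trans
    (ConcreteCategory.congr_hom (NatTrans.congr_app hq (op W')) s)

variable {R : CommRingCat.{u}} (a : Spec R ⟶ S) (B : Type u) [CommRing B] [Algebra R B]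

/-- A chosen lift of a point of the base to the cover. -/
def sel {U : Scheme.{u}} (t : U ⟶ Spec R) (h : ∃ q, q ≫ (uB (R := R) B).hom = t) :
    U ⟶ (uB (R := R) B).left :=
  h.choose

theorem sel_spec {U : Scheme.{u}} (t : U ⟶ Spec R) (h : ∃ q, q ≫ (uB (R := R) B).hom = t) :
    sel B t h ≫ (uB (R := R) B).hom = t :=
  h.choose_spec

theorem sel_congr {U : Scheme.{u}} {t t' : U ⟶ Spec R} (e : t = t') (h : ∃ q, q ≫ (uB (R := R) B).hom = t)
    (h' : ∃ q, q ≫ (uB (R := R) B).hom = t') : sel B t h = sel B t' h' := by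
  subst e; rfl

/-- The lift of a point to the product with the cover. -/
def liftPt {U : Over S} {V : Over (Spec R)} (φ : U ⟶ (Over.map a).obj V)
    (h : ∃ q, q ≫ (uB (R := R) B).hom = φ.left ≫ V.hom) : U ⟶ (Over.map a).obj (V ⨯ uB B) :=
  Over.homMk (prod.lift (Over.homMk φ.left rfl : Over.mk (φ.left ≫ V.hom) ⟶ V)
      (Over.homMk (sel B _ h) (sel_spec B _ h) : Over.mk (φ.left ≫ V.hom) ⟶ uB B)).left (by
    show _ ≫ (V ⨯ uB B).hom ≫ a = U.hom
    rw [← Category.assoc, Over.w]
    show (φ.left ≫ V.hom) ≫ a = U.hom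
    rw [Category.assoc]
    exact Over.w φ)

theorem liftPt_fst {U : Over S} {V : Over (Spec R)} (φ : U ⟶ (Over.map a).obj V)
    (h : ∃ q, q ≫ (uB (R := R) B).hom = φ.left ≫ V.hom) :
    liftPt a B φ h ≫ (Over.map a).map (prod.fst : V ⨯ uB B ⟶ V) = φ := by
  apply Over.OverMorphism.ext
  show (prod.lift (Over.homMk φ.left rfl : Over.mk (φ.left ≫ V.hom) ⟶ V)
    (Over.homMk (sel B _ h) (sel_spec B _ h) : Over.mk (φ.left ≫ V.hom) ⟶ uB B)).left ≫
    (prod.fst : V ⨯ uB (R := R) B ⟶ V).left = φ.left
  exact congrArg CommaMorphism.left (prod.lift_fst (Over.homMk φ.left rfl : Over.mk (φ.left ≫ V.hom) ⟶ V)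
    (Over.homMk (sel B _ h) (sel_spec B _ h) : Over.mk (φ.left ≫ V.hom) ⟶ uB B))

open Classical in
/-- The partial retraction of the product with the cover. -/
def ret (V : Over (Spec R)) : CofVal N (op ((Over.map a).obj (V ⨯ uB B))) →+ CofVal N (op ((Over.map a).obj V)) where
  toFun f := fun U (φ : U ⟶ (Over.map a).obj V) =>
    if h : ∃ q : U.left ⟶ (uB (R := R) B).left, q ≫ (uB (R := R) B).hom = φ.left ≫ V.hom then f U (liftPt a B φ h) else 0
  map_zero' := funext₂ fun U φ => by
    split_ifs <;> rfl
  map_add' f g := funext₂ fun U φ => by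
    simp only [Pi.add_apply]
    split_ifs
    · rfl
    · exact (add_zero 0).symm

open Classical in
theorem ret_natural {V W : Over (Spec R)} (g : W ⟶ V) (f : CofVal N (op ((Over.map a).obj (V ⨯ uB B)))) :
    ret N a B W ((cofAb N).map ((Over.map a).map (prod.map g (𝟙 (uB B)))).op f) =
      (cofAb N).map ((Over.map a).map g).op (ret N a B V f) := funext₂ fun U (φ : U ⟶ (Over.map a).obj W) => by
  let φ' : U ⟶ (Over.map a).obj V := φ ≫ (Over.map a).map g
  have e : φ'.left ≫ V.hom = φ.left ≫ W.hom := by
    show (φ.left ≫ g.left) ≫ V.hom = _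
    rw [Category.assoc, Over.w]
  show (dite _ _ _) = dite _ _ _
  by_cases h : ∃ q, q ≫ (uB (R := R) B).hom = φ.left ≫ W.hom
  · have h' : ∃ q, q ≫ (uB (R := R) B).hom = φ'.left ≫ V.hom := e ▸ h
    rw [dif_pos h]
    refine Eq.trans ?_ (dif_pos h').symm
    refine congrArg (f U) ?_
    apply Over.OverMorphism.ext
    show (prod.lift (Over.homMk φ.left rfl : Over.mk (φ.left ≫ W.hom) ⟶ W)
        (Over.homMk (sel B _ h) (sel_spec B _ h) : Over.mk (φ.left ≫ W.hom) ⟶ uB B)).left ≫
        (prod.map g (𝟙 (uB B))).left = _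
    let c : Over.mk (φ.left ≫ W.hom) ⟶ Over.mk (φ'.left ≫ V.hom) :=
      Over.homMk (𝟙 _) ((Category.id_comp _).trans e)
    have key : prod.lift (Over.homMk φ.left rfl : Over.mk (φ.left ≫ W.hom) ⟶ W)
        (Over.homMk (sel B _ h) (sel_spec B _ h) : Over.mk (φ.left ≫ W.hom) ⟶ uB B) ≫ prod.map g (𝟙 (uB B)) =
        c ≫ prod.lift (Over.homMk φ'.left rfl : Over.mk (φ'.left ≫ V.hom) ⟶ V)
          (Over.homMk (sel B _ h') (sel_spec B _ h') : Over.mk (φ'.left ≫ V.hom) ⟶ uB B) := by
      apply prod.hom_ext
      · simp only [Category.assoc, prod.map_fst, prod.lift_fst, prod.lift_fst_assoc]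
        apply Over.OverMorphism.ext
        exact (Category.id_comp _).symm
      · simp only [Category.assoc, prod.map_snd, prod.lift_snd, prod.lift_snd_assoc, Category.comp_id]
        apply Over.OverMorphism.ext
        exact (sel_congr B e.symm h h').trans (Category.id_comp _).symm
    exact (congrArg CommaMorphism.left key).trans (Category.id_comp _)
  · have h' : ¬ ∃ q, q ≫ (uB (R := R) B).hom = φ'.left ≫ V.hom := e ▸ h
    rw [dif_neg h]
    refine Eq.trans ?_ (dif_neg h').symm
    rfl

open Classical in
theorem ret_pw (m : ℕ) (f : CofVal N (op ((Over.map a).obj (pw (uB (R := R) B) m)))) :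
    ret N a B (pw (uB B) m)
      ((cofAb N).map ((Over.map a).map (prod.fst : pw (uB (R := R) B) m ⨯ uB B ⟶ pw (uB B) m)).op f) = f :=
  funext₂ fun U φ => by
  have h : ∃ q, q ≫ (uB (R := R) B).hom = φ.left ≫ (pw (uB (R := R) B) m).hom :=
    ⟨φ.left ≫ (Pi.π (fun _ : Fin (m + 1) => uB (R := R) B) 0).left, by
      rw [Category.assoc, Over.w]⟩
  show dite _ _ _ = _
  rw [dif_pos h]
  exact congrArg (f U) (liftPt_fst a B φ h)

/-- Čech complexes of cofree presheaves are exact in positive degrees. -/
theorem cech_exactAt_cof (n : ℕ) :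
    (cechOne (uB (R := R) B) ((Over.map a).op ⋙ cofAb N)).ExactAt (n + 1) := by
  let Q := (Over.map a).op ⋙ cofAb N
  let η : Q ⟶ prodU (uB B) Q :=
    { app := fun V => Q.map (prod.fst : V.unop ⨯ uB B ⟶ V.unop).op
      naturality := fun V W g => by
        show Q.map g ≫ Q.map _ = Q.map _ ≫ Q.map _
        rw [← Functor.map_comp, ← Functor.map_comp]
        refine congrArg Q.map (Quiver.Hom.unop_inj ?_)
        show prod.fst ≫ g.unop = prod.map g.unop (𝟙 _) ≫ prod.fst
        rw [prod.map_fst] }
  let r : prodU (uB B) Q ⟶ Q :=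
    { app := fun V => AddCommGrpCat.ofHom (ret N a B V.unop)
      naturality := fun V W g => by
        ext f
        exact ret_natural N a B g.unop f }
  let C := cechComplexFunctor (A := AddCommGrpCat.{u + 1}) (fun _ : PUnit.{u + 2} => uB (R := R) B)
  haveI : IsIso (C.map (η ≫ r)) := isIso_cech_map (uB B) (η ≫ r) fun m => by
    have e : (η ≫ r).app (op (pw (uB B) m)) = 𝟙 _ := by
      ext f
      exact ret_pw N a B m f
    rw [e]
    infer_instance
  rw [HomologicalComplex.exactAt_iff_isZero_homology]
  have hz := (exactAt_prodU (uB B) Q n).isZero_homology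
  haveI : Mono (HomologicalComplex.homologyMap (C.map η) (n + 1) ≫
      HomologicalComplex.homologyMap (C.map r) (n + 1)) := by
    rw [← HomologicalComplex.homologyMap_comp, ← C.map_comp]
    infer_instance
  haveI : Mono (HomologicalComplex.homologyMap (C.map η) (n + 1)) := mono_of_mono _ (HomologicalComplex.homologyMap (C.map r) (n + 1))
  exact IsZero.of_mono (HomologicalComplex.homologyMap (C.map η) (n + 1)) hz

/-- Injective modules have exact Čech complexes. -/
theorem cechAcyc_injective [Injective N] :
    CechAcyc ((BigSite.toAbMod Scheme.fppfPrecoverage S).obj N) := by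
  intro R a B _ _ _ _ n
  obtain ⟨q, hq⟩ := exists_retraction N
  let i : resP a ((BigSite.toAbMod Scheme.fppfPrecoverage S).obj N) ⟶ (Over.map a).op ⋙ cofAb N :=
    Functor.whiskerLeft (Over.map a).op ((PresheafOfModules.toPresheaf _).map (toCof N))
  let p : (Over.map a).op ⋙ cofAb N ⟶ resP a ((BigSite.toAbMod Scheme.fppfPrecoverage S).obj N) :=
    Functor.whiskerLeft (Over.map a).op q
  have hip : i ≫ p = 𝟙 _ := by
    ext V x
    exact ConcreteCategory.congr_hom (NatTrans.congr_app hq _) x
  let C := cechComplexFunctor (A := AddCommGrpCat.{u + 1}) (fun _ : PUnit.{u + 2} => uB (R := R) B)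
  rw [HomologicalComplex.exactAt_iff_isZero_homology]
  haveI : Mono (HomologicalComplex.homologyMap (C.map i) (n + 1)) :=
    mono_of_mono_fac (f := HomologicalComplex.homologyMap (C.map p) (n + 1)) (h := 𝟙 _) (by
      rw [← HomologicalComplex.homologyMap_comp, ← C.map_comp, hip, C.map_id, HomologicalComplex.homologyMap_id])
  exact IsZero.of_mono (HomologicalComplex.homologyMap (C.map i) (n + 1))
    (cech_exactAt_cof N a B n).isZero_homology

end Groth.Agent.ParPush8
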