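import Groth.Agent.Lib.ParPush8.Cofree
import Groth.Agent.Lib.AdeqA.Parasitic
import Groth.Agent.Lib.CohFound.ModulesInst

/-!
# Higher direct images of parasitic acyclic modules are parasitic
-/

set_option autoImplicit false
set_option maxHeartbeats 1000000
set_option linter.style.haveILetI false

universe u

open CategoryTheory CategoryTheory.Limits AlgebraicGeometry Opposite

set_option backward.isDefEq.respectTransparency false
set_option backward.isDefEq.respectTransparency.types false

noncomputable section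

namespace Groth.Agent.ParPush8

open Groth.Agent.AdeqA

variable {S T : Scheme.{u}}

theorem cechAcyc_of_iso {F G : BigSite.Ab Scheme.fppfPrecoverage T} (e : F ≅ G) (hF : CechAcyc F) :
    CechAcyc G := fun R a B _ _ _ hB n => by
  let ν : resP a F ⟶ resP a G := Functor.whiskerLeft (Over.map a).op e.hom.hom
  haveI := isIso_cech_map (uB (R := R) B) ν fun m =>
    inferInstanceAs (IsIso (((sheafToPresheaf _ _ ⋙ (evaluation _ _).obj
      (op ((Over.map a).obj (pw (uB B) m)))).mapIso e).hom))
  exact HomologicalComplex.ExactAt.of_iso (hF R a B hB n)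
    (asIso ((cechComplexFunctor (fun _ : PUnit.{u + 2} => uB B)).map ν))

variable {M : BigSite.Mod Scheme.fppfPrecoverage T} (R : InjectiveResolution M)

/-- The terms of the resolution. -/
abbrev cx (j : ℕ) : BigSite.Ab Scheme.fppfPrecoverage T :=
  (BigSite.toAbMod Scheme.fppfPrecoverage T).obj (R.cocomplex.X j)

/-- The differentials. -/
abbrev dx (j : ℕ) : cx R j ⟶ cx R (j + 1) :=
  (BigSite.toAbMod Scheme.fppfPrecoverage T).map (R.cocomplex.d j (j + 1))

theorem dx_comp (j : ℕ) : dx R j ≫ dx R (j + 1) = 0 := by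
  rw [← Functor.map_comp, HomologicalComplex.d_comp_d, Functor.map_zero]

/-- The cycles. -/
abbrev cyc (j : ℕ) : BigSite.Ab Scheme.fppfPrecoverage T :=
  (BigSite.toAbMod Scheme.fppfPrecoverage T).obj (kernel (R.cocomplex.d j (j + 1)))

/-- The sequences of cycles. -/
abbrev cycSeq (j : ℕ) : ShortComplex (BigSite.Ab Scheme.fppfPrecoverage T) :=
  (ShortComplex.mk (kernel.ι (R.cocomplex.d j (j + 1)))
    (kernel.lift (R.cocomplex.d (j + 1) (j + 2)) (R.cocomplex.d j (j + 1)) (R.cocomplex.d_comp_d _ _ _)) (by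
    rw [← cancel_mono (kernel.ι (R.cocomplex.d (j + 1) (j + 2))), Category.assoc, kernel.lift_ι,
      kernel.condition, zero_comp])).map (BigSite.toAbMod Scheme.fppfPrecoverage T)

theorem shortExact_cycSeq (j : ℕ) : (cycSeq R j).ShortExact := by
  let d := R.cocomplex.d j (j + 1)
  let l := kernel.lift (R.cocomplex.d (j + 1) (j + 2)) d (R.cocomplex.d_comp_d _ _ _)
  haveI : Epi l := (R.exact_succ j).epi_kernelLift
  haveI : Sheaf.IsLocallySurjective ((BigSite.toAbMod Scheme.fppfPrecoverage T).map l) :=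
    ⟨fun s => imageSieve_mem_of_epi l s⟩
  have hep : Epi (cycSeq R j).g := Sheaf.epi_of_isLocallySurjective ((BigSite.toAbMod Scheme.fppfPrecoverage T).map l)
  refine ShortComplex.ShortExact.mk' ?_
    (inferInstanceAs (Mono ((BigSite.toAbMod Scheme.fppfPrecoverage T).map (kernel.ι d)))) hep
  refine ShortComplex.Exact.map_of_mono_of_preservesKernel (S := ShortComplex.mk (kernel.ι d) l _) ?_ _
    (inferInstanceAs (Mono (kernel.ι d))) inferInstance
  apply ShortComplex.exact_of_f_is_kernel
  exact KernelFork.IsLimit.ofι _ _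
    (fun x hx => kernel.lift d x (by
      rw [← kernel.lift_ι (R.cocomplex.d (j + 1) (j + 2)) d (R.cocomplex.d_comp_d _ _ _), ← Category.assoc]
      show (x ≫ l) ≫ kernel.ι _ = 0
      rw [hx, zero_comp]))
    (fun x hx => kernel.lift_ι _ _ _)
    (fun x hx m hm => by
      rw [← cancel_mono (kernel.ι d), kernel.lift_ι]
      exact hm)

/-- The zeroth cycles are the module. -/
def cycZeroIso : (BigSite.toAbMod Scheme.fppfPrecoverage T).obj M ≅ cyc R 0 :=
  haveI : Mono (R.ι.f 0) := mono_of_isLimit_fork R.isLimitKernelFork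
  haveI : Mono (ShortComplex.mk (R.ι.f 0) (R.cocomplex.d 0 1) R.ι_f_zero_comp_complex_d).f := this
  (BigSite.toAbMod Scheme.fppfPrecoverage T).mapIso
    (R.exact₀.fIsKernel.conePointUniqueUpToIso (limit.isLimit _))

variable (hM : CechAcyc ((BigSite.toAbMod Scheme.fppfPrecoverage T).obj M))

include hM in
theorem cechAcyc_cyc (j : ℕ) : CechAcyc (cyc R j) := by
  induction j with
  | zero => exact cechAcyc_of_iso (cycZeroIso R) hM
  | succ j ih =>
    haveI := R.injective j
    have h₂ : CechAcyc (cycSeq R j).X₂ := cechAcyc_injective (R.cocomplex.X j)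
    exact (cechAcyc_quotient (C := cycSeq R j) (shortExact_cycSeq R j) ih h₂ : CechAcyc (cycSeq R j).X₃)

variable (V : Over T)

/-- The open as an object of the big site. -/
abbrev ob (W : V.left.Opens) : Over T := (Over.map V.hom).obj ((BigSite.zarIncl V.left).obj W)

/-- Inclusions of opens. -/
abbrev obMap {W' W : V.left.Opens} (h : W' ≤ W) : ob V W' ⟶ ob V W :=
  (Over.map V.hom).map ((BigSite.zarIncl V.left).map (homOfLE h))

instance {W' W : V.left.Opens} (h : W' ≤ W) : Mono (obMap V h) := by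
  haveI : Mono (obMap V h).left := inferInstanceAs (Mono (V.left.homOfLE h))
  exact Over.mono_of_mono_left _

/-- Surjectivity of restrictions between quasi-compact opens. -/
def SurjRes (F : BigSite.Ab Scheme.fppfPrecoverage T) : Prop :=
  ∀ ⦃W' W : V.left.Opens⦄ (h : W' ≤ W), IsCompact (W' : Set V.left) → IsCompact (W : Set V.left) →
    Function.Surjective (F.obj.map (obMap V h).op)

theorem map_eq_map_of_inter (F : BigSite.Ab Scheme.fppfPrecoverage T) {W U : V.left.Opens} {Z : Over T}
    (g₁ : Z ⟶ ob V W) (g₂ : Z ⟶ ob V U) (h12 : g₁.left ≫ W.ι = g₂.left ≫ U.ι)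
    {t₁ : F.obj.obj (op (ob V W))} {t₂ : F.obj.obj (op (ob V U))}
    (key : F.obj.map (obMap V (inf_le_left : W ⊓ U ≤ W)).op t₁ =
      F.obj.map (obMap V (inf_le_right : W ⊓ U ≤ U)).op t₂) :
    F.obj.map g₁.op t₁ = F.obj.map g₂.op t₂ := by
  have hr : Set.range (g₁.left ≫ W.ι) ⊆ Set.range (W ⊓ U : V.left.Opens).ι := by
    rintro _ ⟨z, rfl⟩
    rw [Scheme.Opens.range_ι]
    refine ⟨(g₁.left z).2, ?_⟩
    have e := congrArg (fun k : Z.left ⟶ V.left => k z) h12
    simp only at e
    rw [e]
    exact (g₂.left z).2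
  let hh : Z ⟶ ob V (W ⊓ U) := Over.homMk
    (IsOpenImmersion.lift (W ⊓ U : V.left.Opens).ι (g₁.left ≫ W.ι) hr) (by
      show IsOpenImmersion.lift _ _ hr ≫ (W ⊓ U : V.left.Opens).ι ≫ V.hom = Z.hom
      rw [IsOpenImmersion.lift_fac_assoc, Category.assoc]
      exact Over.w g₁)
  have e₁ : g₁ = hh ≫ obMap V inf_le_left := by
    apply Over.OverMorphism.ext
    apply (cancel_mono W.ι).1
    show g₁.left ≫ W.ι = (IsOpenImmersion.lift (W ⊓ U : V.left.Opens).ι (g₁.left ≫ W.ι) hr ≫ V.left.homOfLE inf_le_left) ≫ W.ι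
    rw [Category.assoc, Scheme.homOfLE_ι, IsOpenImmersion.lift_fac]
  have e₂ : g₂ = hh ≫ obMap V inf_le_right := by
    apply Over.OverMorphism.ext
    apply (cancel_mono U.ι).1
    show g₂.left ≫ U.ι = (IsOpenImmersion.lift (W ⊓ U : V.left.Opens).ι (g₁.left ≫ W.ι) hr ≫ V.left.homOfLE inf_le_right) ≫ U.ι
    rw [Category.assoc, Scheme.homOfLE_ι, IsOpenImmersion.lift_fac, h12]
  rw [e₁, e₂, op_comp, op_comp, Functor.map_comp, Functor.map_comp]
  exact congrArg (F.obj.map hh.op) key

theorem exists_lift_opens [QuasiSeparatedSpace V.left] {C : ShortComplex (BigSite.Ab Scheme.fppfPrecoverage T)}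
    (hC : C.ShortExact) (hA : CechAcyc C.X₁) (hR : SurjRes V C.X₁) (W : V.left.Opens)
    (hW : IsCompact (W : Set V.left)) : Function.Surjective (C.g.hom.app (op (ob V W))) := by
  refine compact_open_induction_on
    (P := fun W : V.left.Opens => Function.Surjective (C.g.hom.app (op (ob V W)))) W hW ?_ ?_
  ·
    haveI : IsEmpty (ob V (⊥ : V.left.Opens)).left := ⟨fun x => (x : (⊥ : V.left.Opens)).2⟩
    haveI := subsingleton_of_isEmpty C.X₃ (ob V (⊥ : V.left.Opens))
    exact fun s => ⟨0, Subsingleton.elim _ _⟩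
  · intro W hW U ih s
    haveI : IsAffine (ob V U.1).left := U.2
    obtain ⟨t₁, ht₁⟩ := ih (C.X₃.obj.map (obMap V (le_sup_left : W ≤ W ⊔ U.1)).op s)
    obtain ⟨t₂, ht₂⟩ := surjective_of_cechAcyc' hC hA (ob V U.1)
      (C.X₃.obj.map (obMap V (le_sup_right : U.1 ≤ W ⊔ U.1)).op s)
    have hWU : IsCompact ((W ⊓ U.1 : V.left.Opens) : Set V.left) :=
      hW.inter_of_isOpen U.2.isCompact W.2 U.1.2
    let c : C.X₂.obj.obj (op (ob V (W ⊓ U.1))) :=
      C.X₂.obj.map (obMap V inf_le_left).op t₁ - C.X₂.obj.map (obMap V inf_le_right).op t₂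
    have res₃ : ∀ {A B D : V.left.Opens} (h : A ≤ B) (h' : B ≤ D) (x : C.X₃.obj.obj (op (ob V D))),
        C.X₃.obj.map (obMap V h).op (C.X₃.obj.map (obMap V h').op x) =
          C.X₃.obj.map (obMap V (h.trans h')).op x := fun {A B D} h h' x => by
      rw [← ConcreteCategory.comp_apply, ← Functor.map_comp, ← op_comp, ← Functor.map_comp, ← Functor.map_comp]
      rfl
    obtain ⟨z, hz⟩ := exists_app_f hC (op (ob V (W ⊓ U.1))) c (by
      simp only [c, map_sub]
      rw [NatTrans.naturality_apply C.g.hom, NatTrans.naturality_apply C.g.hom, ht₁, ht₂]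
      erw [res₃, res₃]
      exact sub_self _)
    obtain ⟨z₂, hz₂⟩ := hR (inf_le_right : W ⊓ U.1 ≤ U.1) hWU U.2.isCompact z
    let t₂' := t₂ + C.f.hom.app (op (ob V U.1)) z₂
    have key : C.X₂.obj.map (obMap V (inf_le_left : W ⊓ U.1 ≤ W)).op t₁ =
        C.X₂.obj.map (obMap V (inf_le_right : W ⊓ U.1 ≤ U.1)).op t₂' := by
      rw [map_add, ← NatTrans.naturality_apply C.f.hom, hz₂, hz]
      exact (add_sub_cancel _ _).symm
    have ht₂' : C.g.hom.app (op (ob V U.1)) t₂' =
        C.X₃.obj.map (obMap V (le_sup_right : U.1 ≤ W ⊔ U.1)).op s := by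
      rw [map_add, ht₂]
      refine add_eq_left.2 ?_
      exact ConcreteCategory.congr_hom (congrArg (fun k : C.X₁ ⟶ C.X₃ => k.hom.app (op (ob V U.1))) C.zero) z₂
    let O : Bool → V.left.Opens := fun b => bif b then W else U.1
    have hO : ∀ b, O b ≤ W ⊔ U.1 := fun b => by cases b <;> simp [O]
    let p : ∀ b, ob V (O b) ⟶ ob V (W ⊔ U.1) := fun b => obMap V (hO b)
    have hcov : Sieve.ofArrows (fun b => ob V (O b)) p ∈
        QuotSh.J Scheme.fppfPrecoverage T (ob V (W ⊔ U.1)) := by
      rw [GrothendieckTopology.mem_over_iff, Sieve.overEquiv_ofArrows]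
      refine Precoverage.generate_mem_toGrothendieck ((Scheme.ofArrows_mem_precoverage_iff _).2
        ⟨fun x => ?_, fun b => ⟨show Flat (V.left.homOfLE (hO b)) from inferInstance,
          show LocallyOfFinitePresentation (V.left.homOfLE (hO b)) from inferInstance⟩⟩)
      let x₀ : ((W ⊔ U.1 : V.left.Opens) : Scheme.{u}) := x
      obtain ⟨b, hb⟩ : ∃ b, (x₀.1 : V.left) ∈ O b := by
        rcases x₀.2 with h | h
        exacts [⟨true, h⟩, ⟨false, h⟩]
      refine ⟨b, ⟨x₀.1, hb⟩, ?_⟩
      show V.left.homOfLE (hO b) ⟨x₀.1, hb⟩ = x₀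
      apply Subtype.ext
      simp
    have hP₂ := (isSheaf_iff_isSheaf_of_type _ _).1
      ((Presheaf.isSheaf_iff_isSheaf_forget _ C.X₂.obj (forget AddCommGrpCat.{u + 1})).1 C.X₂.property)
    have hP₃ := (isSheaf_iff_isSheaf_of_type _ _).1
      ((Presheaf.isSheaf_iff_isSheaf_forget _ C.X₃.obj (forget AddCommGrpCat.{u + 1})).1 C.X₃.property)
    let y : ∀ b, C.X₂.obj.obj (op (ob V (O b))) := fun b => match b with
      | true => t₁
      | false => t₂'
    obtain ⟨t, ht, -⟩ := (Presieve.isSheafFor_arrows_iff _ _).1 (hP₂.isSheafFor _ hcov) y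
      fun b b' Z gb gb' hbb => by
        have hmain := fun g₁ g₂ h12 => map_eq_map_of_inter V C.X₂ (Z := Z) g₁ g₂ h12 key
        have hl := congrArg (fun k : Z ⟶ ob V (W ⊔ U.1) => k.left ≫ (W ⊔ U.1 : V.left.Opens).ι) hbb
        simp only [p, Over.comp_left] at hl
        change (gb.left ≫ V.left.homOfLE (hO b)) ≫ _ = (gb'.left ≫ V.left.homOfLE (hO b')) ≫ _ at hl
        rw [Category.assoc, Category.assoc, Scheme.homOfLE_ι, Scheme.homOfLE_ι] at hl
        cases b <;> cases b'
        · have : gb = gb' := Over.OverMorphism.ext ((cancel_mono U.1.ι).1 hl)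
          rw [this]
        · exact (hmain gb' gb hl.symm).symm
        · exact hmain gb gb' hl
        · have : gb = gb' := Over.OverMorphism.ext ((cancel_mono W.ι).1 hl)
          rw [this]
    refine ⟨t, (hP₃ _ hcov).isSeparatedFor.ext fun Z g hg => ?_⟩
    obtain ⟨_, c', _, ⟨b⟩, rfl⟩ := hg
    rw [op_comp, Functor.map_comp]
    refine congrArg (fun w => ((C.X₃.obj ⋙ forget AddCommGrpCat.{u + 1}).map c'.op) w) ?_
    refine (NatTrans.naturality_apply C.g.hom (p b).op t).symm.trans ?_
    refine (congrArg (C.g.hom.app _) (ht b)).trans ?_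
    cases b
    · exact ht₂'
    · exact ht₁

include hM in
theorem surjRes_cyc [QuasiSeparatedSpace V.left]
    (h0 : ∀ W : V.left.Opens, Subsingleton (((BigSite.toAbMod Scheme.fppfPrecoverage T).obj M).obj.obj (op (ob V W)))) :
    ∀ j, SurjRes V (cyc R j)
  | 0 => fun W' W h _ _ s => by
    let e := cycZeroIso R
    let ev := sheafToPresheaf (QuotSh.J Scheme.fppfPrecoverage T) AddCommGrpCat.{u + 1} ⋙
      (evaluation _ AddCommGrpCat.{u + 1}).obj (op (ob V W'))
    haveI : Subsingleton ((cyc R 0).obj.obj (op (ob V W'))) :=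
      ((ev.mapIso e).addCommGroupIsoToAddEquiv.toEquiv.subsingleton_congr).1 (h0 W')
    exact ⟨0, Subsingleton.elim _ _⟩
  | j + 1 => fun W' W h hW' hW s => by
    obtain ⟨t, rfl⟩ := exists_lift_opens V (shortExact_cycSeq R j) (cechAcyc_cyc R hM j)
      (surjRes_cyc h0 j) W' hW' s
    haveI := R.injective j
    obtain ⟨t', rfl⟩ := surjective_map_of_mono (R.cocomplex.X j) (obMap V h) t
    exact ⟨(cycSeq R j).g.hom.app (op (ob V W)) t', (NatTrans.naturality_apply (cycSeq R j).g.hom _ t').symm⟩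

include hM in
/-- The resolution is exact on sections over flat quasi-compact quasi-separated objects. -/
theorem exists_boundary [CompactSpace V.left]
    [QuasiSeparatedSpace V.left] [Flat V.hom] (hP : Adeq.parasitic Scheme.fppfPrecoverage T M) (j : ℕ)
    (x : (cx R (j + 1)).obj.obj (op V)) (hx : (dx R (j + 1)).hom.app (op V) x = 0) :
    ∃ y : (cx R j).obj.obj (op V), (dx R j).hom.app (op V) y = x := by
  let e : ob V ⊤ ≅ V := Over.isoMk (V.left.topIso) (by rfl)
  have h0 : ∀ W : V.left.Opens,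
      Subsingleton (((BigSite.toAbMod Scheme.fppfPrecoverage T).obj M).obj.obj (op (ob V W))) := fun W => by
    haveI : Flat (ob V W).hom := inferInstanceAs (Flat (W.ι ≫ V.hom))
    exact hP (ob V W) inferInstance
  let ev := sheafToPresheaf (QuotSh.J Scheme.fppfPrecoverage T) AddCommGrpCat.{u + 1} ⋙
    (evaluation _ AddCommGrpCat.{u + 1}).obj (op (ob V ⊤))
  let x' := (cx R (j + 1)).obj.map e.hom.op x
  have hx' : (dx R (j + 1)).hom.app (op (ob V ⊤)) x' = 0 := by
    rw [NatTrans.naturality_apply, hx, map_zero]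
  let F := BigSite.toAbMod Scheme.fppfPrecoverage T
  let d := R.cocomplex.d (j + 1) (j + 2)
  let S₀ := (ShortComplex.mk (kernel.ι d) d (kernel.condition _)).map F
  have h₀ : S₀.Exact := (ShortComplex.exact_of_f_is_kernel _ (kernelIsKernel d)).map_of_mono_of_preservesKernel
    F (inferInstanceAs (Mono (kernel.ι d))) inferInstance
  have hex : (S₀.map ev).Exact :=
    h₀.map_of_mono_of_preservesKernel ev (inferInstanceAs (Mono (F.map (kernel.ι d)))) inferInstance
  obtain ⟨z, hz⟩ := (ShortComplex.ab_exact_iff _).1 hex x' hx'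
  obtain ⟨y, hy⟩ := exists_lift_opens V (shortExact_cycSeq R j) (cechAcyc_cyc R hM j)
    (surjRes_cyc R hM V h0 j) ⊤ isCompact_univ z
  refine ⟨(cx R j).obj.map e.inv.op y, ?_⟩
  have hy' : (dx R j).hom.app (op (ob V ⊤)) y = x' := by
    rw [← hz, ← hy]
    exact (ConcreteCategory.congr_hom (congrArg (fun k : cx R j ⟶ cx R (j + 1) => k.hom.app (op (ob V ⊤)))
      ((F.map_comp _ _).symm.trans (congrArg F.map (kernel.lift_ι d (R.cocomplex.d j (j + 1)) (R.cocomplex.d_comp_d _ _ _))))) y).symm
  rw [NatTrans.naturality_apply, hy', ← ConcreteCategory.comp_apply, ← Functor.map_comp, ← op_comp,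
    e.inv_hom_id, op_id, CategoryTheory.Functor.map_id]
  rfl

include hM in
theorem parasitic_homology (f : T ⟶ S) [QuasiCompact f] [QuasiSeparated f]
    (hP : Adeq.parasitic Scheme.fppfPrecoverage T M) (i : ℕ) :
    Adeq.parasitic Scheme.fppfPrecoverage S
      ((((BigSite.pushMod Scheme.fppfPrecoverage f).mapHomologicalComplex (ComplexShape.up ℕ)).obj
        R.cocomplex).homology i) := by
  intro U hU
  refine subsingleton_of_forall_eq 0 fun s => ?_
  let K := ((BigSite.pushMod Scheme.fppfPrecoverage f).mapHomologicalComplex (ComplexShape.up ℕ)).obj R.cocomplex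
  let H := K.homology i
  let s' : H.val.presheaf.obj (op U) := s
  suffices h : s' = 0 from h
  refine eq_zero_of_sieve H s' _ (imageSieve_mem_of_epi (K.homologyπ i) s') fun V v hv hvflat => ?_
  obtain ⟨z, hz⟩ := hv
  haveI : Flat v.left := hvflat
  haveI : Flat U.hom := hU
  haveI : Flat V.hom := by rw [← Over.w v]; infer_instance
  refine Eq.trans hz.symm ?_
  refine eq_zero_of_covering H _ (Presieve.ofArrows (fun W : V.left.affineOpens => (W.1 : Scheme.{u}))
    fun W => W.1.ι) ((Scheme.ofArrows_mem_precoverage_iff _).2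
      ⟨fun x => ?_, fun W => ⟨show Flat W.1.ι from inferInstance,
        show LocallyOfFinitePresentation W.1.ι from inferInstance⟩⟩) ?_
  · obtain ⟨_, ⟨W, hW, rfl⟩, hxW, -⟩ :=
      V.left.isBasis_affineOpens.exists_subset_of_mem_open (Set.mem_univ x) isOpen_univ
    exact ⟨⟨W, hW⟩, ⟨x, hxW⟩, rfl⟩
  rintro _ _ ⟨W⟩
  let U' : Over S := Over.mk (W.1.ι ≫ V.hom)
  haveI : IsAffine (W.1 : Scheme.{u}) := W.2
  haveI : IsAffine U'.left := W.2
  let w : U' ⟶ V := Over.homMk W.1.ι rfl
  let z' := (K.cycles i).val.presheaf.map w.op z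
  refine (NatTrans.naturality_apply ((PresheafOfModules.toPresheaf _).map (K.homologyπ i).val) w.op z).symm.trans ?_
  show ((PresheafOfModules.toPresheaf _).map (K.homologyπ i).val).app (op U') z' = 0
  let V' : Over T := (Over.pullback f).obj U'
  haveI : Flat U'.hom := inferInstanceAs (Flat (W.1.ι ≫ V.hom))
  haveI : Flat V'.hom := inferInstanceAs (Flat (pullback.snd U'.hom f))
  haveI : CompactSpace V'.left :=
    QuasiCompact.compactSpace_of_compactSpace (pullback.fst U'.hom f)
  haveI : QuasiSeparatedSpace V'.left :=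
    quasiSeparatedSpace_of_quasiSeparated (pullback.fst U'.hom f)
  let app' {A B : BigSite.Mod Scheme.fppfPrecoverage S} (φ : A ⟶ B) :=
    ((PresheafOfModules.toPresheaf _).map φ.val).app (op U')
  let ev := SheafOfModules.evaluation (BigSite.ORing Scheme.fppfPrecoverage S) (op U')
  let x : (cx R i).obj.obj (op V') := app' (K.iCycles i) z'
  have hdx : ∀ k, app' (K.d i k) (app' (K.iCycles i) z') = 0 := fun k =>
    ConcreteCategory.congr_hom (congrArg app' (K.iCycles_d i k)) z'
  have hinj : Function.Injective (app' (K.iCycles i)) :=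
    fun a b hab => (ModuleCat.mono_iff_injective _).1 (inferInstanceAs (Mono (ev.map (K.iCycles i)))) hab
  cases i with
  | zero =>
    suffices hx0 : x = 0 by
      have : z' = 0 := hinj (hx0.trans (map_zero (app' (K.iCycles 0)).hom).symm)
      rw [this, map_zero]
    have hd := hdx 1
    let evT := SheafOfModules.evaluation (BigSite.ORing Scheme.fppfPrecoverage T) (op V')
    haveI : Mono (R.ι.f 0) := mono_of_isLimit_fork R.isLimitKernelFork
    have hex := R.exact₀.map_of_mono_of_preservesKernel evT (inferInstanceAs (Mono (R.ι.f 0))) inferInstance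
    obtain ⟨m, hm⟩ := (ShortComplex.moduleCat_exact_iff _).1 hex x hd
    rw [← hm, (hP V' inferInstance).elim m 0]
    exact map_zero _
  | succ j =>
    obtain ⟨y, hy⟩ := exists_boundary R hM V' hP j x (hdx (j + 2))
    have : z' = app' (K.toCycles j (j + 1)) y := hinj (by
      refine Eq.trans ?_ (ConcreteCategory.congr_hom (congrArg app' (K.toCycles_i j (j + 1))) y).symm
      exact hy.symm)
    rw [this]
    exact ConcreteCategory.congr_hom (congrArg app' (K.toCycles_comp_homologyπ j (j + 1))) y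

theorem parasitic_RpushMod (f : T ⟶ S) [QuasiCompact f] [QuasiSeparated f]
    [HasInjectiveResolutions (BigSite.Mod Scheme.fppfPrecoverage T)]
    (M : BigSite.Mod Scheme.fppfPrecoverage T) (hM : Adeq.adequateMod Scheme.fppfPrecoverage T M)
    (hP : Adeq.parasitic Scheme.fppfPrecoverage T M) (i : ℕ) :
    Adeq.parasitic Scheme.fppfPrecoverage S ((BigSite.RpushMod Scheme.fppfPrecoverage f i).obj M) :=
  (Adeq.parasitic Scheme.fppfPrecoverage S).prop_of_iso
    ((injectiveResolution M).isoRightDerivedObj (BigSite.pushMod Scheme.fppfPrecoverage f) i).symm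
    (parasitic_homology (injectiveResolution M) (cechAcyc_toAbMod hM) f hP i)

end Groth.Agent.ParPush8
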